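import Mathlib
import Cfsg.Agent.H33.ConjAbelianKey
import Cfsg.Agent.H33.SigmaComplement
import Cfsg.Agent.S3909
import Cfsg.Agent.S4022
import Cfsg.Agent.H86.ConjSubgroups

/-!
In a solvable group whose abelian subgroups of equal order are conjugate, all subgroups of equal
order are conjugate.
-/

set_option autoImplicit false
set_option linter.style.haveILetI false

open scoped Pointwise

namespace Cfsg.Agent.H33.ConjAb

open Cfsg.Agent.H85

universe u
variable {G : Type u} [Group G] [Finite G]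

theorem card_map_conj (A : Subgroup G) (g : G) :
    Nat.card (A.map (MulAut.conj g).toMonoidHom) = Nat.card A :=
  Subgroup.card_map_of_injective (MulAut.conj g).injective

omit [Finite G] in
theorem map_conj_conj (A : Subgroup G) (g h : G) :
    (A.map (MulAut.conj g).toMonoidHom).map (MulAut.conj h).toMonoidHom =
      A.map (MulAut.conj (h * g)).toMonoidHom := by
  rw [Subgroup.map_map]; congr 1; ext x; simp [mul_assoc]

omit [Finite G] in
theorem map_mk_conj (N : Subgroup G) [N.Normal] (A : Subgroup G) (g : G) :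
    (A.map (MulAut.conj g).toMonoidHom).map (QuotientGroup.mk' N) =
      (A.map (QuotientGroup.mk' N)).map (MulAut.conj (QuotientGroup.mk' N g)).toMonoidHom := by
  rw [Subgroup.map_map, Subgroup.map_map]; congr 1

omit [Finite G] in
theorem comap_map_conj (N : Subgroup G) [N.Normal] (A : Subgroup G) (g : G) :
    ((A.map (QuotientGroup.mk' N)).map (MulAut.conj (QuotientGroup.mk' N g)).toMonoidHom).comap
      (QuotientGroup.mk' N) = A.map (MulAut.conj g).toMonoidHom ⊔ N := by
  rw [← map_mk_conj, Subgroup.comap_map_eq, QuotientGroup.ker_mk']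

/-- Lifting conjugacy through a normal subgroup of order prime to `|A|`. -/
theorem coprime_lift [Group.IsSolvable G] {V A B : Subgroup G} [V.Normal]
    (hcop : (Nat.card V).Coprime (Nat.card A)) (hcard : Nat.card A = Nat.card B)
    (h : ∃ g : G ⧸ V, B.map (QuotientGroup.mk' V) =
      (A.map (QuotientGroup.mk' V)).map (MulAut.conj g).toMonoidHom) :
    ∃ g : G, B = A.map (MulAut.conj g).toMonoidHom := by
  obtain ⟨g', hg⟩ := h
  obtain ⟨g, rfl⟩ := QuotientGroup.mk'_surjective V g'
  have h1 := congrArg (Subgroup.comap (QuotientGroup.mk' V)) hg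
  rw [Subgroup.comap_map_eq, QuotientGroup.ker_mk', comap_map_conj] at h1
  set A' := A.map (MulAut.conj g).toMonoidHom with hA'
  have hA'c : Nat.card A' = Nat.card A := card_map_conj A g
  have hhall : ∀ D : Subgroup G, D ≤ B ⊔ V → Nat.card D = Nat.card A →
      Cfsg.IsPiHallOf {r | r ∣ Nat.card A} D (B ⊔ V) := by
    intro D hD hDc
    refine ⟨hD, fun r _ hd => hDc ▸ hd, fun r hr hrπ hd => hr.not_dvd_one ?_⟩
    have hdvd : D.relIndex (B ⊔ V) ∣ Nat.card V := by
      have h2 : Nat.card ↥(B ⊔ V) ∣ Nat.card V * Nat.card A := by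
        rw [sup_comm, hcard]; exact H19.card_sup_dvd V B
      have h3 := Subgroup.relIndex_mul_relIndex ⊥ D (B ⊔ V) bot_le hD
      rw [Subgroup.relIndex_bot_left, Subgroup.relIndex_bot_left, hDc] at h3
      rw [← h3, mul_comm (Nat.card V)] at h2
      exact Nat.dvd_of_mul_dvd_mul_left Nat.card_pos h2
    rw [← hcop]
    exact Nat.dvd_gcd (hd.trans hdvd) hrπ
  obtain ⟨s, -, hs⟩ := hallOf_conj (M := B ⊔ V) inferInstance
    (hhall A' (le_sup_left.trans h1.ge) hA'c) (hhall B le_sup_left hcard.symm)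
  refine ⟨s * g, ?_⟩
  rw [← hs, hA', ← map_conj_eq_smul, map_conj_conj]

/-- Lifting conjugacy through a normal subgroup contained in both. -/
theorem sub_lift {V A B : Subgroup G} [V.Normal] (hA : V ≤ A) (hB : V ≤ B)
    (h : ∃ g : G ⧸ V, B.map (QuotientGroup.mk' V) =
      (A.map (QuotientGroup.mk' V)).map (MulAut.conj g).toMonoidHom) :
    ∃ g : G, B = A.map (MulAut.conj g).toMonoidHom := by
  obtain ⟨g', hg⟩ := h
  obtain ⟨g, rfl⟩ := QuotientGroup.mk'_surjective V g'
  have h1 := congrArg (Subgroup.comap (QuotientGroup.mk' V)) hg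
  rw [Subgroup.comap_map_eq, QuotientGroup.ker_mk', comap_map_conj, sup_eq_left.2 hB] at h1
  refine ⟨g, h1.trans (sup_eq_left.2 fun v hv => ⟨g⁻¹ * v * g, hA ?_, by simp [mul_assoc]⟩)⟩
  simpa using (inferInstance : V.Normal).conj_mem v hv g⁻¹

/-- The `r`-elements of `F(G)` lie in `O_r(G)`. -/
theorem mem_pCore_of_mem_fitting {r : ℕ} [Fact r.Prime] {x : G}
    (hx : x ∈ Cfsg.fittingSubgroup G) (h : ∃ n, orderOf x = r ^ n) : x ∈ Cfsg.pCore r G := by
  haveI := H19.fitting_isNilpotent (G := G)
  haveI := H19.fitting_normal G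
  obtain ⟨n, hn⟩ := h
  have hz : IsPGroup r (Subgroup.zpowers (⟨x, hx⟩ : Cfsg.fittingSubgroup G)) :=
    IsPGroup.of_card (n := n) (by rw [Nat.card_zpowers, Subgroup.orderOf_mk, hn])
  obtain ⟨P, hP⟩ := hz.exists_le_sylow
  have hPn : (P : Subgroup (Cfsg.fittingSubgroup G)).Normal :=
    ((Group.isNilpotent_of_finite_tfae (G := Cfsg.fittingSubgroup G)).out 0 3 rfl rfl).1
      inferInstance r inferInstance P
  haveI := P.characteristic_of_normal hPn
  exact H19.le_pCore ConjAct.normal_of_characteristic_of_normal (P.2.map _)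
    ⟨_, hP (Subgroup.mem_zpowers _), rfl⟩

/-- What a minimal normal subgroup looks like once neither reduction applies. -/
structure Layer (G : Type u) [Group G] (A : Subgroup G) (r : ℕ) : Prop where
  elem : Cfsg.IsElementaryAbelian r (Cfsg.pCore r G)
  sylow : ∀ x : G, (∃ n, orderOf x = r ^ n) → x ∈ Cfsg.pCore r G
  inf_ne : A ⊓ Cfsg.pCore r G ≠ ⊥
  not_le : ¬ Cfsg.pCore r G ≤ A
  index : ¬ r ∣ (Cfsg.pCore r G).index

theorem exists_layer [Group.IsSolvable G] (hB : AbConj G) {A B : Subgroup G}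
    (hcard : Nat.card A = Nat.card B)
    (hno : ∀ V : Subgroup G, V.Normal → V ≠ ⊥ →
      ¬ ((V ≤ A ∧ V ≤ B) ∨ (Nat.card V).Coprime (Nat.card A)))
    (r : ℕ) [hr : Fact r.Prime] (hne : Cfsg.pCore r G ≠ ⊥) :
    Layer G A r ∧ Layer G B r := by
  haveI := H19.pCore_normal r G
  obtain ⟨V, hVn, hV1, hVle, hmin⟩ := H19.exists_minimalNormal_le _ hne
  haveI := hVn
  obtain ⟨hVc, q, hq, hqp, hVe⟩ := H19.minimalNormal_elementary V inferInstance hV1 hmin
  haveI : Fact q.Prime := ⟨hq⟩
  have hVr : IsPGroup r V := (H19.pCore_isPGroup r).to_le hVle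
  haveI : Nontrivial V := (Subgroup.nontrivial_iff_ne_bot V).2 hV1
  obtain ⟨t, ht, htc⟩ := hVr.nontrivial_iff_card.1 inferInstance
  obtain ⟨k, hk, hkc⟩ := hqp.nontrivial_iff_card.1 inferInstance
  have hqr : q = r := (Nat.prime_dvd_prime_iff_eq hq hr.out).1
    (hq.dvd_of_dvd_pow ((dvd_pow_self q hk.ne').trans (hkc.symm.trans htc).dvd))
  subst hqr
  have hqA : q ∣ Nat.card A := by
    by_contra hd
    exact hno V hVn hV1 (Or.inr (htc ▸ ((Nat.Prime.coprime_iff_not_dvd hq).2 hd).pow_left t))
  have horder : ∀ D : Subgroup G, q ∣ Nat.card D → ∃ x ∈ D, orderOf x = q := fun D hd => by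
    obtain ⟨⟨x, hx⟩, hxo⟩ := exists_prime_orderOf_dvd_card' (G := D) q hd
    exact ⟨x, hx, by rwa [Subgroup.orderOf_mk] at hxo⟩
  have ht2 : 2 ≤ t := by
    by_contra h
    have hcV : Nat.card V = q := by rw [htc, show t = 1 by omega, pow_one]
    have hle : ∀ D : Subgroup G, q ∣ Nat.card D → V ≤ D := by
      intro D hd
      obtain ⟨x, hxD, hxo⟩ := horder D hd
      have hxV : x ∈ V := hB.pow_eq_one_mem hcV (hxo ▸ pow_orderOf_eq_one x)
      have : Subgroup.zpowers x = V := Subgroup.eq_of_le_of_card_ge (Subgroup.zpowers_le.2 hxV)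
        (by rw [Nat.card_zpowers, hxo, hcV])
      exact this ▸ Subgroup.zpowers_le.2 hxD
    exact hno V hVn hV1 (Or.inl ⟨hle A hqA, hle B (hcard ▸ hqA)⟩)
  obtain ⟨P⟩ := (inferInstance : Nonempty (Sylow q G))
  have hP := (S3909.result hB V).2 q t ht2 htc ⟨hVc, hVe⟩ P
  have hcore : Cfsg.pCore q G = V := le_antisymm ((H19.pCore_le_sylow P).trans hP.le) hVle
  have hmem : ∀ x : G, (∃ n, orderOf x = q ^ n) → x ∈ Cfsg.pCore q G := by
    rintro x ⟨n, hn⟩
    obtain ⟨P', hP'⟩ := (IsPGroup.of_card (n := n) (by rw [Nat.card_zpowers, hn]) :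
      IsPGroup q (Subgroup.zpowers x)).exists_le_sylow
    rw [hcore, ← (S3909.result hB V).2 q t ht2 htc ⟨hVc, hVe⟩ P']
    exact hP' (Subgroup.mem_zpowers x)
  have hkey : ∀ D D' : Subgroup G, Nat.card D = Nat.card D' → V ≤ D → V ≤ D' := by
    intro D D' hDD hVD
    obtain ⟨R⟩ := (inferInstance : Nonempty (Sylow q D'))
    have hRle : (R : Subgroup D').map D'.subtype ≤ V := by
      obtain ⟨P', hP'⟩ := (R.2.map D'.subtype).exists_le_sylow
      exact hP'.trans ((S3909.result hB V).2 q t ht2 htc ⟨hVc, hVe⟩ P').le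
    refine (Subgroup.eq_of_le_of_card_ge hRle ?_).ge.trans (Subgroup.map_subtype_le _)
    rw [Subgroup.card_map_of_injective D'.subtype_injective]
    refine Nat.le_of_dvd Nat.card_pos ?_
    rw [htc, R.card_eq_multiplicity]
    exact pow_dvd_pow q ((hq.pow_dvd_iff_le_factorization Nat.card_pos.ne').1
      (hDD ▸ htc ▸ Subgroup.card_dvd_of_le hVD))
  have hmk : ∀ D D' : Subgroup G, Nat.card D = Nat.card D' → q ∣ Nat.card D →
      (V ≤ D → ¬ V ≤ D') → Layer G D q := by
    intro D D' hDD hqD hnle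
    refine ⟨by rw [hcore]; exact ⟨hVc, hVe⟩, hmem, fun h => ?_, fun h => ?_, ?_⟩
    · obtain ⟨x, hxD, hxo⟩ := horder D hqD
      have : x ∈ (⊥ : Subgroup G) :=
        h ▸ Subgroup.mem_inf.2 ⟨hxD, hmem x ⟨1, by rw [hxo, pow_one]⟩⟩
      rw [Subgroup.mem_bot] at this
      rw [this, orderOf_one] at hxo
      exact hq.ne_one hxo.symm
    · exact hnle (hcore ▸ h) (hkey D D' hDD (hcore ▸ h))
    · rw [hcore, ← hP]
      exact P.not_dvd_index
  exact ⟨hmk A B hcard hqA fun h1 h2 => hno V hVn hV1 (Or.inl ⟨h1, h2⟩),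
    hmk B A hcard.symm (hcard ▸ hqA) fun h1 h2 => hno V hVn hV1 (Or.inl ⟨h2, h1⟩)⟩

/-- In the reduced case `N(T)/F(G)` has cyclic Sylow subgroups. -/
theorem sylow_cyclic [Group.IsSolvable G] (hB : AbConj G) {T : Subgroup G}
    (hlayer : ∀ (r : ℕ) [Fact r.Prime], Cfsg.pCore r G ≠ ⊥ →
      Cfsg.IsElementaryAbelian r (Cfsg.pCore r G) ∧ T ⊓ Cfsg.pCore r G ≠ ⊥ ∧
        ¬ Cfsg.pCore r G ≤ T ∧ ¬ r ∣ (Cfsg.pCore r G).index)
    [(Cfsg.fittingSubgroup G).Normal] (hFc : IsMulCommutative (Cfsg.fittingSubgroup G))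
    (q : ℕ) [Fact q.Prime] :
    ∀ P : Sylow q ↥((Subgroup.normalizer (T : Set G)).map
      (QuotientGroup.mk' (Cfsg.fittingSubgroup G))), IsCyclic ↥P := by
  set F := Cfsg.fittingSubgroup G with hF
  set π := QuotientGroup.mk' F with hπ
  set Mb := (Subgroup.normalizer (T : Set G)).map π with hMb
  intro P
  have hBF : AbConj (G ⧸ F) := hB.quotient inferInstance F
  -- a nontrivial element of `G/F` moves some `O_r(G)`
  have hmove : ∀ x : G ⧸ F, x ≠ 1 → ∃ (r : ℕ) (_ : Fact r.Prime), Cfsg.pCore r G ≠ ⊥ ∧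
      ∃ g : G, π g = x ∧ g ∉ Subgroup.centralizer (Cfsg.pCore r G : Set G) := by
    intro x hx
    obtain ⟨g, rfl⟩ := QuotientGroup.mk'_surjective F x
    by_contra hno
    refine hx ((QuotientGroup.eq_one_iff g).2 (H19.centralizer_fitting_le
      (mem_centralizer_fitting fun r _ => by_contra fun hc => hno
        ⟨r, inferInstance, fun h => hc ?_, g, rfl, hc⟩)))
    rw [h, Subgroup.mem_centralizer_iff]
    intro y hy
    rw [SetLike.mem_coe, Subgroup.mem_bot] at hy
    rw [hy, one_mul, mul_one]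
  -- the action on one layer
  have hact : ∀ (r : ℕ) [Fact r.Prime], Cfsg.pCore r G ≠ ⊥ →
      ∃ (X : Type u) (_ : Group X) (_ : Finite X) (_ : (Cfsg.pCore r G).Normal)
        (f : G ⧸ F →* X) (φ : X →* MulAut (Cfsg.pCore r G)),
        Function.Injective φ ∧ (∀ g : G, φ (f (π g)) = MulAut.conjNormal g) ∧
          Function.Surjective f ∧
          (∀ (q : ℕ) [Fact q.Prime] (E : Subgroup X), Cfsg.IsElementaryAbelian q E →
            ¬ q ^ 2 ∣ Nat.card E) ∧
          ∀ Q : Subgroup X, Nonempty (Q ≃* QuaternionGroup 2) → Q.Normal := by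
    intro r _ hr1
    haveI hVn := H19.pCore_normal r G
    obtain ⟨hVe, -, -, hidx⟩ := hlayer r hr1
    set V := Cfsg.pCore r G
    let φ₀ : G →* MulAut V := MulAut.conjNormal
    have hle : ∀ D : Subgroup G, (∀ d ∈ D, ∀ v ∈ V, d * v = v * d) → D ≤ φ₀.ker := by
      intro D hD d hd
      rw [MonoidHom.mem_ker]
      refine MulEquiv.ext fun v => Subtype.ext ?_
      rw [MulAut.conjNormal_apply, MulAut.one_apply, hD d hd v v.2, mul_inv_cancel_right]
    have hVF : V ≤ F := H19.pCore_le_fitting r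
    have hFker : F ≤ φ₀.ker := hle F fun d hd v hv =>
      congrArg Subtype.val (hFc.is_comm.comm (⟨d, hd⟩ : F) ⟨v, hVF hv⟩)
    obtain ⟨n, hn⟩ := IsPGroup.iff_card.1 (H19.pCore_isPGroup (G := G) r)
    haveI : Nontrivial V := (Subgroup.nontrivial_iff_ne_bot V).2 hr1
    have hBX : AbConj (G ⧸ φ₀.ker) := hB.quotient inferInstance φ₀.ker
    have hnc := normal_elementary_cyclic (V := V) (QuotientGroup.kerLift φ₀)
      (QuotientGroup.kerLift_injective φ₀) (by
        rw [hn, ← Subgroup.index_eq_card]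
        exact ((Nat.Prime.coprime_iff_not_dvd Fact.out).2 fun hd =>
          hidx (hd.trans (Subgroup.index_dvd_of_le (hVF.trans hFker)))).symm.pow_right n)
      (fun v w hv hw => by
        have ho : ∀ u : V, u ≠ 1 → orderOf (u : G) = r := fun u hu => by
          refine orderOf_eq_prime (hVe.2 u u.2) fun h => hu (Subtype.ext h)
        obtain ⟨g, hg⟩ := hB (Subgroup.zpowers (v : G)) (Subgroup.zpowers (w : G)) inferInstance
          inferInstance (by rw [Nat.card_zpowers, Nat.card_zpowers, ho v hv, ho w hw])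
        have hval : ((QuotientGroup.kerLift φ₀ (g : G ⧸ φ₀.ker) v : V) : G) =
            MulAut.conj g (v : G) := by
          rw [QuotientGroup.kerLift_mk]; rfl
        rw [MonoidHom.map_zpowers] at hg
        refine ⟨(g : G ⧸ φ₀.ker), ?_, ?_⟩
        · have h1 : MulAut.conj g (v : G) ∈ Subgroup.zpowers (w : G) :=
            hg ▸ Subgroup.mem_zpowers _
          obtain ⟨k, hk⟩ := Subgroup.mem_zpowers_iff.1 h1
          exact Subgroup.mem_zpowers_iff.2 ⟨k, Subtype.ext (by rw [Subgroup.coe_zpow, hk, hval])⟩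
        · have h1 : (w : G) ∈ Subgroup.zpowers (MulAut.conj g (v : G)) :=
            hg.le (Subgroup.mem_zpowers _)
          obtain ⟨k, hk⟩ := Subgroup.mem_zpowers_iff.1 h1
          exact Subgroup.mem_zpowers_iff.2 ⟨k, Subtype.ext (by rw [Subgroup.coe_zpow, hval, hk])⟩)
    exact ⟨G ⧸ φ₀.ker, inferInstance, inferInstance, hVn,
      QuotientGroup.map F φ₀.ker (MonoidHom.id G) hFker, QuotientGroup.kerLift φ₀,
      QuotientGroup.kerLift_injective φ₀, fun g => rfl,
      fun x => by
        obtain ⟨g, rfl⟩ := QuotientGroup.mk'_surjective φ₀.ker x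
        exact ⟨QuotientGroup.mk' F g, rfl⟩,
      fun q _ E hE => no_elementary hnc hBX hE, fun Q ⟨e⟩ => quaternion_normal hnc hBX e⟩
  by_contra hnot
  set P' := (P : Subgroup ↥Mb).map Mb.subtype with hP'
  have hP'M : P' ≤ Mb := Subgroup.map_subtype_le _
  have hP'p : IsPGroup q P' := P.2.map _
  have hP'nc : ¬ IsCyclic P' := fun h => by
    haveI := h
    exact hnot (((P : Subgroup ↥Mb).equivMapOfInjective _ Mb.subtype_injective).isCyclic.2 h)
  rcases H85.AbConj.unique_or_exists_elementary (p := q) hP'p with huniq | ⟨E₀, hE₀, hE₀c⟩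
  · -- a quaternion group
    obtain ⟨rfl, n, ⟨e⟩⟩ := (H21.cyclic_or_quaternion q hP'p huniq).resolve_left hP'nc
    rcases Nat.eq_zero_or_pos n with rfl | hn
    · haveI : IsCyclic (QuaternionGroup (2 ^ 0)) := QuaternionGroup.quaternionGroup_one_isCyclic
      exact hP'nc (isCyclic_of_surjective e.symm.toMonoidHom e.symm.surjective)
    have hcP : Nat.card P' = 4 * 2 ^ n := by
      rw [Nat.card_congr e.toEquiv, Nat.card_eq_fintype_card, QuaternionGroup.card]
    obtain ⟨S, hS⟩ := hP'p.exists_le_sylow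
    have hn1 : n = 1 := by
      rcases hBF.cyclic_quaternion_or_exponent S.2 with h | ⟨-, m, ⟨e'⟩⟩ | h
      · exact absurd (isCyclic_of_injective (Subgroup.inclusion hS)
          (Subgroup.inclusion_injective hS)) hP'nc
      · have h8 := Nat.le_of_dvd (by norm_num) ((Subgroup.card_dvd_of_le hS).trans
          (hBF.card_quaternion_dvd inferInstance S e'))
        rw [hcP] at h8
        by_contra hne
        have : 2 ^ 2 ≤ 2 ^ n := Nat.pow_le_pow_right (by norm_num) (by omega)
        omega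
      · exfalso
        have h1 := congrArg (fun a : P' => (a : G ⧸ F))
          (show e.symm (QuaternionGroup.a 1) ^ 2 = 1 from
            Subtype.ext (h _ (hS (e.symm (QuaternionGroup.a 1)).2)))
        have h2 : (QuaternionGroup.a 1 : QuaternionGroup (2 ^ n)) ^ 2 = 1 := by
          apply e.symm.injective
          rw [map_pow, map_one]
          exact Subtype.ext h1
        have h3 := orderOf_dvd_of_pow_eq_one h2
        rw [QuaternionGroup.orderOf_a_one] at h3
        have := Nat.le_of_dvd (by norm_num) h3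
        have := Nat.le_self_pow hn.ne' 2
        omega
    subst hn1
    change P' ≃* QuaternionGroup 2 at e
    have hz : ∀ a : QuaternionGroup 2, a ≠ 1 →
        a = QuaternionGroup.a 2 ∨ a * a = QuaternionGroup.a 2 := by decide +kernel
    set z : G ⧸ F := ((e.symm (QuaternionGroup.a 2) : P') : G ⧸ F) with hzdef
    have hz1 : z ≠ 1 := fun h => by
      have := congrArg e (Subtype.ext h : e.symm (QuaternionGroup.a 2) = 1)
      rw [MulEquiv.apply_symm_apply, map_one] at this
      exact absurd this (by decide +kernel)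
    obtain ⟨r, _, hr1, g, hg, hgc⟩ := hmove z hz1
    set V := Cfsg.pCore r G with hV
    obtain ⟨X, _, _, hVn, f, φ, hφ, hφc, hf, -, hQn⟩ := hact r hr1
    obtain ⟨hVe, hTV, hVT, -⟩ := hlayer r hr1
    rw [← hV] at hVe hTV hVT
    have hzf : f z ≠ 1 := fun h => hgc (by
      rw [Subgroup.mem_centralizer_iff]
      intro v hv
      have h1 := hφc g
      rw [hg, h, map_one] at h1
      have h2 := congrArg Subtype.val (DFunLike.congr_fun h1 (⟨v, hv⟩ : V))
      rw [MulAut.one_apply, MulAut.conjNormal_apply] at h2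
      exact (mul_inv_eq_iff_eq_mul.1 h2.symm).symm)
    have hinj : Function.Injective (f.comp P'.subtype) := by
      rw [← MonoidHom.ker_eq_bot_iff, eq_bot_iff]
      intro a ha
      rw [Subgroup.mem_bot]
      by_contra ha1
      rcases hz (e a) (fun h => ha1 (e.injective (h.trans e.map_one.symm))) with h | h
      · refine hzf ?_
        rw [hzdef, ← h, MulEquiv.symm_apply_apply]
        exact MonoidHom.mem_ker.1 ha
      · refine hzf ?_
        rw [hzdef, ← h, ← map_mul, MulEquiv.symm_apply_apply, Subgroup.coe_mul, map_mul,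
          show f (a : G ⧸ F) = 1 from MonoidHom.mem_ker.1 ha, one_mul]
    set Q := (f.comp P'.subtype).range with hQ
    have eQ : Q ≃* QuaternionGroup 2 := (MonoidHom.ofInjective hinj).symm.trans e
    have hQN := hQn Q ⟨eQ⟩
    -- `Q` fixes the layer of `W = T ⊓ V`
    have hr : r.Prime := Fact.out
    obtain ⟨s, hs⟩ := IsPGroup.iff_card.1
      ((H19.pCore_isPGroup (G := G) r).to_le (inf_le_right : T ⊓ V ≤ V))
    have hs1 : 1 ≤ s := by
      by_contra h
      refine hTV (Subgroup.card_eq_one.1 ?_)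
      rw [hs, show s = 0 by omega, pow_zero]
    have hlt : r ^ s < Nat.card V := by
      rw [← hs]
      refine lt_of_le_of_ne (Nat.le_of_dvd Nat.card_pos (Subgroup.card_dvd_of_le inf_le_right))
        fun h => hVT ?_
      exact (Subgroup.eq_of_le_of_card_ge inf_le_right h.ge).ge.trans inf_le_left
    have hVc : ∀ a b : V, a * b = b * a := fun a b => hVe.1.is_comm.comm a b
    have hinv : ∀ U : Subgroup V, Nat.card U = r ^ s → ∀ c ∈ Q, ∀ u ∈ U, φ c u ∈ U := by
      intro U hU c hc u hu
      haveI := hVe.1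
      haveI : IsMulCommutative ↥(T ⊓ V : Subgroup G) := IsMulCommutative.of_comm fun a b =>
        Subtype.ext ((congrArg (fun z : V => (z : G)) (hVc ⟨a, a.2.2⟩ ⟨b, b.2.2⟩) :))
      haveI : IsMulCommutative ↥(U.map V.subtype) := IsMulCommutative.of_comm fun a b =>
        Subtype.ext ((congrArg (fun z : V => (z : G)) (hVc ⟨a, Subgroup.map_subtype_le _ a.2⟩
          ⟨b, Subgroup.map_subtype_le _ b.2⟩) :))
      obtain ⟨h₀, hh₀⟩ := hB (T ⊓ V) (U.map V.subtype) inferInstance inferInstance
        (by rw [hs, Subgroup.card_map_of_injective V.subtype_injective, hU])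
      have hc' : f (π h₀⁻¹) * c * (f (π h₀⁻¹))⁻¹ ∈ Q := hQN.conj_mem c hc (f (π h₀⁻¹))
      obtain ⟨a, ha⟩ := hc'
      obtain ⟨m, hm, hma⟩ := hP'M a.2
      have hu' : (u : G) ∈ U.map V.subtype := ⟨u, hu, rfl⟩
      rw [hh₀] at hu'
      obtain ⟨w, hw, hwu⟩ := hu'
      have hw' : m * w * m⁻¹ ∈ T ⊓ V :=
        ⟨(Subgroup.mem_normalizer_iff.1 hm w).1 hw.1, hVn.conj_mem w hw.2 m⟩
      have hmem : MulAut.conj h₀ (m * w * m⁻¹) ∈ U.map V.subtype :=
        hh₀ ▸ Subgroup.mem_map_of_mem _ hw'
      have hval : ((φ c u : V) : G) = MulAut.conj h₀ (m * w * m⁻¹) := by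
        have e1 : c = f (π (h₀ * m * h₀⁻¹)) := by
          rw [show f (π (h₀ * m * h₀⁻¹)) = f (π h₀) * f (π m) * f (π h₀⁻¹) by
            rw [map_mul, map_mul, map_mul, map_mul],
            show f (π m) = f (π h₀⁻¹) * c * (f (π h₀⁻¹))⁻¹ by rw [hma]; exact ha, map_inv, map_inv]
          group
        rw [e1, hφc, MulAut.conjNormal_apply, ← hwu]
        simp [MulAut.conj_apply, mul_assoc]
      obtain ⟨u', hu'', he⟩ := hmem
      rwa [show φ c u = u' from Subtype.ext (hval.trans he.symm)]
    haveI : Fact r.Prime := ⟨hr⟩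
    have hcomm := comm_of_invariant_layer hVc (fun a => Subtype.ext (hVe.2 a a.2)) φ hs1 hlt hinv
    have hQc : ∀ a b : QuaternionGroup 2, a * b = b * a := fun a b => by
      apply eQ.symm.injective
      rw [map_mul, map_mul]
      refine Subtype.ext (hφ ?_)
      rw [Subgroup.coe_mul, Subgroup.coe_mul, map_mul, map_mul]
      exact hcomm _ (eQ.symm a).2 _ (eQ.symm b).2
    exact absurd (hQc (QuaternionGroup.a 1) (QuaternionGroup.xa 0)) (by decide +kernel)
  · -- a noncyclic elementary subgroup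
    set E := E₀.map P'.subtype with hEdef
    have hEc : q ^ 2 ∣ Nat.card E := by
      rwa [Subgroup.card_map_of_injective P'.subtype_injective]
    have hE : Cfsg.IsElementaryAbelian q E := by
      haveI := hE₀.1
      refine ⟨Subgroup.map_isMulCommutative _ _, ?_⟩
      rintro _ ⟨a, ha, rfl⟩
      rw [← map_pow, hE₀.2 a ha, map_one]
    obtain ⟨x, hxE, -, -, hxo, -, -⟩ := exists_two hE hEc
    have hx1 : x ≠ 1 := fun h => (Fact.out : q.Prime).ne_one (by rw [← hxo, h, orderOf_one])
    obtain ⟨r, _, hr1, g, hg, hgc⟩ := hmove x hx1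
    obtain ⟨X, _, _, hVn, f, φ, hφ, hφc, hf, hnoE, -⟩ := hact r hr1
    refine hnoE q (E.map f) ?_ ?_
    · haveI := hE.1
      refine ⟨Subgroup.map_isMulCommutative _ _, ?_⟩
      rintro _ ⟨a, ha, rfl⟩
      rw [← map_pow, hE.2 a ha, map_one]
    · have hinj : Function.Injective (f.comp E.subtype) := by
        rw [← MonoidHom.ker_eq_bot_iff, eq_bot_iff]
        intro a ha
        rw [Subgroup.mem_bot]
        by_contra ha1
        have hxk : x ∈ f.ker := hBF.mem_of_orderOf_eq f.normal_ker (m := (a : G ⧸ F))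
          (MonoidHom.mem_ker.2 (MonoidHom.mem_ker.1 ha))
          ((orderOf_eq_prime (hE.2 a a.2) fun h => ha1 (Subtype.ext h)).trans hxo.symm)
        refine hgc ?_
        rw [Subgroup.mem_centralizer_iff]
        intro v hv
        have h1 := hφc g
        rw [hg, MonoidHom.mem_ker.1 hxk, map_one] at h1
        have h2 := congrArg Subtype.val (DFunLike.congr_fun h1 (⟨v, hv⟩ : Cfsg.pCore r G))
        rw [MulAut.one_apply, MulAut.conjNormal_apply] at h2
        exact (mul_inv_eq_iff_eq_mul.1 h2.symm).symm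
      have h1 := Nat.card_congr (MonoidHom.ofInjective hinj).toEquiv
      rw [MonoidHom.range_comp, Subgroup.range_subtype] at h1
      rwa [← h1]

theorem conj_of_card_eq (n : ℕ) : ∀ (G : Type u) [Group G] [Finite G], Nat.card G = n →
    AbConj G → Group.IsSolvable G → ∀ A B : Subgroup G, Nat.card A = Nat.card B →
      ∃ g : G, B = A.map (MulAut.conj g).toMonoidHom := by
  induction n using Nat.strong_induction_on with
  | _ n ih =>
    intro G _ _ hn hB hsol A B hcard
    haveI := hsol
    by_cases hex : ∃ V : Subgroup G, V.Normal ∧ V ≠ ⊥ ∧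
        ((V ≤ A ∧ V ≤ B) ∨ (Nat.card V).Coprime (Nat.card A))
    · obtain ⟨V, hVn, hV1, hV⟩ := hex
      haveI := hVn
      have hlt : Nat.card (G ⧸ V) < n := by
        rw [← hn, V.card_eq_card_quotient_mul_card_subgroup]
        exact lt_mul_of_one_lt_right Nat.card_pos ((Subgroup.one_lt_card_iff_ne_bot V).2 hV1)
      have hq : Nat.card (A.map (QuotientGroup.mk' V)) = Nat.card (B.map (QuotientGroup.mk' V)) := by
        rw [← Subgroup.relIndex_ker, ← Subgroup.relIndex_ker, QuotientGroup.ker_mk']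
        rcases hV with ⟨h1, h2⟩ | hc
        · have := Subgroup.relIndex_mul_relIndex ⊥ V A bot_le h1
          have h3 := Subgroup.relIndex_mul_relIndex ⊥ V B bot_le h2
          simp only [Subgroup.relIndex_bot_left] at this h3
          exact Nat.eq_of_mul_eq_mul_left Nat.card_pos (this.trans (hcard.trans h3.symm))
        · have hd : ∀ D : Subgroup G, (Nat.card V).Coprime (Nat.card D) →
              V.relIndex D = Nat.card D := fun D hD => by
            rw [← Subgroup.inf_relIndex_right, Subgroup.inf_eq_bot_of_coprime hD,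
              Subgroup.relIndex_bot_left]
          rw [hd A hc, hd B (hcard ▸ hc), hcard]
      have hQ := ih _ hlt (G ⧸ V) rfl (hB.quotient hsol V) inferInstance _ _ hq
      rcases hV with ⟨h1, h2⟩ | hc
      · exact sub_lift h1 h2 hQ
      · exact coprime_lift hc hcard hQ
    push Not at hex
    have hno : ∀ V : Subgroup G, V.Normal → V ≠ ⊥ →
        ¬ ((V ≤ A ∧ V ≤ B) ∨ (Nat.card V).Coprime (Nat.card A)) := by
      rintro V h1 h2 (⟨h3, h4⟩ | h3)
      · exact (hex V h1 h2).1 h3 h4
      · exact (hex V h1 h2).2 h3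
    set F := Cfsg.fittingSubgroup G with hF
    haveI : F.Normal := H19.fitting_normal G
    have hFc : IsMulCommutative F := by
      refine IsMulCommutative.of_comm fun a b => Subtype.ext
        (Subgroup.mem_centralizer_iff.1 (mem_centralizer_fitting (x := (a : G)) fun r _ => ?_) b b.2).symm
      rw [Subgroup.mem_centralizer_iff]
      intro y hy
      have hle : F ≤ Subgroup.centralizer (Cfsg.pCore r G : Set G) := by
        rw [hF, H19.fitting_eq_iSup_pCore']
        refine iSup_le fun s x hx => Subgroup.mem_centralizer_iff.2 fun z hz => ?_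
        haveI : Fact (s : ℕ).Prime := ⟨Nat.prime_of_mem_primeFactors s.2⟩
        by_cases hsr : (s : ℕ) = r
        · by_cases hr1 : Cfsg.pCore r G = ⊥
          · rw [SetLike.mem_coe, hr1, Subgroup.mem_bot] at hz
            rw [hz, one_mul, mul_one]
          · exact congrArg Subtype.val ((exists_layer hB hcard hno r hr1).1.elem.1.is_comm.comm
              (⟨z, hz⟩ : Cfsg.pCore r G) ⟨x, hsr ▸ hx⟩)
        · haveI := H19.pCore_normal (s : ℕ) G
          haveI := H19.pCore_normal r G
          exact (Subgroup.commute_of_normal_of_disjoint _ _ inferInstance inferInstance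
            (IsPGroup.disjoint_of_ne _ _ hsr _ _ (H19.pCore_isPGroup _) (H19.pCore_isPGroup _))
            x z hx hz).eq.symm
      exact Subgroup.mem_centralizer_iff.1 (hle a.2) y hy
    -- `F` contains all the `r`-elements for its primes
    have hlay : ∀ r : ℕ, r.Prime → r ∣ Nat.card F → ¬ r ∣ F.index := by
      intro r hr hd
      haveI : Fact r.Prime := ⟨hr⟩
      obtain ⟨⟨x, hx⟩, hxo⟩ := exists_prime_orderOf_dvd_card' (G := F) r hd
      rw [Subgroup.orderOf_mk] at hxo
      have hne : Cfsg.pCore r G ≠ ⊥ := fun h => hr.ne_one (by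
        have := mem_pCore_of_mem_fitting hx ⟨1, by rw [hxo, pow_one]⟩
        rw [h, Subgroup.mem_bot] at this
        rw [← hxo, this, orderOf_one])
      exact fun h => (exists_layer hB hcard hno r hne).1.index
        (h.trans (Subgroup.index_dvd_of_le (H19.pCore_le_fitting r)))
    have hparts : ∀ D D' : Subgroup G, Nat.card D = Nat.card D' →
        Nat.card ↥(D ⊓ F) ∣ Nat.card ↥(D' ⊓ F) := by
      intro D D' hDD
      have h1 := Subgroup.relIndex_mul_relIndex ⊥ (D' ⊓ F) D' bot_le inf_le_left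
      simp only [Subgroup.relIndex_bot_left] at h1
      refine (Nat.Coprime.dvd_of_dvd_mul_right ?_ (show Nat.card ↥(D ⊓ F) ∣
        Nat.card ↥(D' ⊓ F) * (D' ⊓ F).relIndex D' by
          rw [h1, ← hDD]; exact Subgroup.card_dvd_of_le inf_le_left))
      refine Nat.coprime_of_dvd fun r hr hr1 hr2 => ?_
      rw [Subgroup.inf_relIndex_left] at hr2
      exact hlay r hr (hr1.trans (Subgroup.card_dvd_of_le inf_le_right))
        (hr2.trans (Subgroup.relIndex_dvd_index_of_normal _ _))
    have hTab : ∀ D : Subgroup G, IsMulCommutative ↥(D ⊓ F) := fun D =>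
      IsMulCommutative.of_comm fun a b => Subtype.ext
        (by
          have h1 : ((⟨a, a.2.2⟩ : F) * ⟨b, b.2.2⟩ : F) = ⟨b, b.2.2⟩ * ⟨a, a.2.2⟩ :=
            hFc.is_comm.comm _ _
          exact congrArg (fun z : F => (z : G)) h1)
    obtain ⟨g, hg⟩ := hB (A ⊓ F) (B ⊓ F) (hTab A) (hTab B)
      (Nat.dvd_antisymm (hparts A B hcard) (hparts B A hcard.symm))
    set A' := A.map (MulAut.conj g).toMonoidHom with hA'
    set T := B ⊓ F with hT
    have hFg : F.map (MulAut.conj g).toMonoidHom = F := H86.map_conj_normal F g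
    have hA'T : A' ⊓ F = T := by
      rw [hg, hA', Subgroup.map_inf _ _ _ (MulAut.conj g).injective, hFg]
    have hA'c : Nat.card A' = Nat.card B := (card_map_conj A g).trans hcard
    set π := QuotientGroup.mk' F with hπ
    set M := Subgroup.normalizer (T : Set G) with hM
    have hDM : ∀ D : Subgroup G, D ⊓ F = T → D ≤ M := by
      intro D hD d hd
      rw [hM, ← hD, Subgroup.mem_normalizer_iff]
      intro x
      refine ⟨fun hx => ⟨D.mul_mem (D.mul_mem hd hx.1) (D.inv_mem hd),
        (inferInstance : F.Normal).conj_mem x hx.2 d⟩, fun hx => ?_⟩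
      have h1 := D.mul_mem (D.mul_mem (D.inv_mem hd) hx.1) hd
      have h2 := (inferInstance : F.Normal).conj_mem _ hx.2 d⁻¹
      simp only [mul_assoc, inv_mul_cancel, mul_one, inv_mul_cancel_left, inv_inv] at h1 h2
      exact ⟨h1, h2⟩
    have hZ := sylow_cyclic hB (T := T) (fun r _ hr1 => by
      obtain ⟨-, hl⟩ := exists_layer hB hcard hno r hr1
      refine ⟨hl.elem, fun h => hl.inf_ne ?_, fun h => hl.not_le (h.trans inf_le_left), hl.index⟩
      rw [eq_bot_iff, ← h]
      exact le_inf (le_inf inf_le_left (inf_le_right.trans (H19.pCore_le_fitting r))) inf_le_right)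
      hFc
    have hcq : ∀ D : Subgroup G, D ⊓ F = T → Nat.card (D.map π) * Nat.card T = Nat.card D := by
      intro D hD
      have h1 := Subgroup.relIndex_mul_relIndex ⊥ (D ⊓ F) D bot_le inf_le_left
      simp only [Subgroup.relIndex_bot_left] at h1
      rw [← h1, hπ, ← Subgroup.relIndex_ker, QuotientGroup.ker_mk', ← hD, mul_comm,
        Subgroup.inf_relIndex_left]
    set Mb := M.map π with hMb
    have hsub : ∀ D : Subgroup G, D ⊓ F = T → D.map π ≤ Mb := fun D hD =>
      Subgroup.map_mono (hDM D hD)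
    obtain ⟨⟨_, m, hm, rfl⟩, hy⟩ := S4022.result (G := ↥Mb)
      (fun p hp H K hH hK hHK => by
        haveI : Fact p.Prime := ⟨hp⟩
        exact H86.cj_of_cyclic_sylow (hZ p) hH hK hHK)
      0 (fun p hp _ => by haveI : Fact p.Prime := ⟨hp⟩; exact hZ p)
      ((A'.map π).subgroupOf Mb) ((B.map π).subgroupOf Mb) (by
        rw [Nat.card_congr (Subgroup.subgroupOfEquivOfLe (hsub A' hA'T)).toEquiv,
          Nat.card_congr (Subgroup.subgroupOfEquivOfLe (hsub B rfl)).toEquiv]
        refine Nat.eq_of_mul_eq_mul_right (Nat.card_pos (α := T)) ?_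
        rw [hcq A' hA'T, hcq B rfl, hA'c])
    have hy' : B.map π = (A'.map π).map (MulAut.conj (π m)).toMonoidHom := by
      have := congrArg (Subgroup.map Mb.subtype) hy
      rw [Subgroup.map_subgroupOf_eq_of_le (hsub B rfl), Subgroup.map_map] at this
      rw [this]
      conv_rhs => rw [← Subgroup.map_subgroupOf_eq_of_le (hsub A' hA'T), Subgroup.map_map]
      rfl
    set A'' := A'.map (MulAut.conj m).toMonoidHom with hA''
    have h1 := congrArg (Subgroup.comap π) hy'
    rw [Subgroup.comap_map_eq, QuotientGroup.ker_mk', hπ, comap_map_conj, ← hA''] at h1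
    have hA''T : A'' ⊓ F = T := by
      rw [hA'', ← H86.map_conj_normal F m, ← Subgroup.map_inf _ _ _ (MulAut.conj m).injective,
        hA'T, map_conj_eq_smul]
      exact H19.conj_smul_eq_of_mem_normalizer hm
    -- `A''` and `B` share `T`; their Hall subgroups for the other primes are conjugate
    set σ : Set ℕ := {r | ¬ r ∣ Nat.card F}
    have hHall : ∀ D : Subgroup G, D ≤ B ⊔ F → D ⊓ F = T → Nat.card D = Nat.card B →
        ∃ C : Subgroup G, C ⊔ T = D ∧ Cfsg.IsPiHallOf σ C (B ⊔ F) := by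
      intro D hDle hD hDc
      obtain ⟨C, hC, -⟩ := exists_hallOf_ge (π := σ) (X := ⊥) (M := D) inferInstance bot_le
        fun p hp hd => absurd (Subgroup.card_bot (G := G) ▸ hd) hp.not_dvd_one
      have hTD : T ≤ D := hD ▸ inf_le_left
      refine ⟨C, le_antisymm (sup_le hC.1 hTD) ?_, hC.1.trans hDle, hC.2.1, fun r hr hσ hd => ?_⟩
      · refine Subgroup.relIndex_eq_one.1 (by_contra fun hne => ?_)
        obtain ⟨r, hr, hd⟩ := Nat.exists_prime_and_dvd hne
        by_cases hrF : r ∣ Nat.card F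
        · refine hlay r hr hrF ?_
          have h3 : T.relIndex D ∣ F.index := by
            rw [← hD, Subgroup.inf_relIndex_left]
            exact Subgroup.relIndex_dvd_index_of_normal _ _
          exact (hd.trans (Subgroup.relIndex_dvd_of_le_left D le_sup_right)).trans h3
        · exact hC.2.2 r hr hrF (hd.trans (Subgroup.relIndex_dvd_of_le_left D le_sup_left))
      · rw [← Subgroup.relIndex_mul_relIndex C D (B ⊔ F) hC.1 hDle] at hd
        rcases hr.dvd_mul.1 hd with h | h
        · exact hC.2.2 r hr hσ h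
        · refine hσ (h.trans ?_)
          have h2 : Nat.card ↥(B ⊔ F) ∣ Nat.card F * Nat.card D := by
            rw [sup_comm, hDc]; exact H19.card_sup_dvd F B
          have h3 := Subgroup.relIndex_mul_relIndex ⊥ D (B ⊔ F) bot_le hDle
          rw [Subgroup.relIndex_bot_left, Subgroup.relIndex_bot_left] at h3
          rw [← h3, mul_comm (Nat.card F)] at h2
          exact Nat.dvd_of_mul_dvd_mul_left Nat.card_pos h2
    obtain ⟨C₁, hC₁, hC₁H⟩ := hHall A'' (le_sup_left.trans h1.ge) hA''T
      ((card_map_conj A' m).trans hA'c)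
    obtain ⟨C₂, hC₂, hC₂H⟩ := hHall B le_sup_left rfl rfl
    obtain ⟨s, hs, hsC⟩ := hallOf_conj (M := B ⊔ F) inferInstance hC₁H hC₂H
    have hsT : MulAut.conj s • T = T := H19.conj_smul_eq_of_mem_normalizer
      ((sup_le (hDM B rfl) (fun f hf => by
        refine Subgroup.centralizer_le_normalizer _ (Subgroup.mem_centralizer_iff.2 fun t ht => ?_)
        exact congrArg Subtype.val (hFc.is_comm.comm (⟨t, ht.2⟩ : F) ⟨f, hf⟩))) hs)
    refine ⟨s * (m * g), ?_⟩
    rw [← map_conj_conj, ← map_conj_conj, ← hA', ← hA'', ← hC₁, map_conj_eq_smul,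
      Subgroup.smul_sup, hsC, hsT, hC₂]

end Cfsg.Agent.H33.ConjAb
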